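import Cfsg.Agent.Lib.MaxSub.M24Pair.Group
import Cfsg.Agent.Lib.Trans3.Fi.M24TwentyNinePrimes
import Cfsg.Agent.Lib.NormalCover.G2SpectrumOdd

/-!
Elements of order 13 in a group of type M(24): the six members commuting with one, and its
normaliser.
-/

set_option autoImplicit false
set_option linter.unusedSectionVars false
set_option maxRecDepth 100000

namespace CfsgLib.MaxSub.M24Pair

universe u

open Subgroup
open CfsgLib.Trans3.Fi (CN Fx nbrs lvl_m24 pairGen_m24 m24_common_card m24_card_D m24_card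
  ncard_fixed_modEq exists_fixed_of_mod closure_pair_iso pair_split pair_cn_centralizer)

local instance factThree8 : Fact (Nat.Prime 3) := ⟨Nat.prime_three⟩

/-! ### The group `G₂(3)` has no element of order 26 or 39 -/

theorem det_toO (g : ↥(Cfsg.Lie.G2 (ZMod 3))) :
    (((g : GL (Fin 8) (ZMod 3)) : Matrix (Fin 8) (Fin 8) (ZMod 3))).det = 1 := by
  obtain ⟨h, hh⟩ : ∃ h, h = toO g := ⟨_, rfl⟩
  have hd : (CfsgLib.StructC.PlusEight.mat h).det = 1 :=
    (det_of_sp h).1 (congrArg Prod.fst (mem_om_iff.1 (hh ▸ toO_mem g)))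
  have he : (((g : GL (Fin 8) (ZMod 3)) : Matrix (Fin 8) (Fin 8) (ZMod 3))) =
      zeN * CfsgLib.StructC.PlusEight.mat h * zeM := by
    refine Matrix.ext_iff_mulVec.2 fun z => ?_
    rw [← Matrix.mulVec_mulVec, zeM_mulVec, ← Matrix.mulVec_mulVec, zeN_mulVec, hh, toO_mulVec,
      ze.symm_apply_apply]
  have hu : (1 : Matrix (Fin 8) (Fin 8) (ZMod 3)) = zeN * zeM := zeN_zeM.symm
  rw [he, Matrix.det_conj_of_mul_eq_one zeN_zeM zeM_zeN, hd]

theorem g2_no_big (g : ↥(Cfsg.Lie.G2 (ZMod 3))) : orderOf g ≠ 26 ∧ orderOf g ≠ 39 := by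
  have h := CfsgLib.NormalCover.g2_odd_order_cases (F := ZMod 3) (p := 3) (by norm_num)
    (q := 3) (ZMod.card 3) g.2 (det_toO g)
  have hdvd : ∀ n : ℕ, (g : GL (Fin 8) (ZMod 3)) ^ n = 1 → orderOf g ∣ n := fun n hn =>
    orderOf_dvd_of_pow_eq_one (Subtype.ext (by rw [SubmonoidClass.coe_pow]; exact hn))
  constructor <;> intro e <;> rcases h with ⟨n, hn, hg⟩ | ⟨-, hg⟩
  all_goals
    have := hdvd _ hg
    rw [e] at this
    first
      | (simp only [Set.mem_insert_iff, Set.mem_singleton_iff] at hn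
         rcases hn with rfl | rfl | rfl | rfl | rfl <;> norm_num at this)
      | norm_num at this

theorem chev_no_big (g : ↥(Cfsg.Lie.chevG2.group (ZMod 3))) :
    orderOf g ≠ 26 ∧ orderOf g ≠ 39 := by
  have h : orderOf (CfsgLib.Chev.G2Z.toOct (F := ZMod 3) g) = orderOf g :=
    orderOf_injective _ CfsgLib.Chev.G2Z.toOct_injective g
  rw [← h]
  exact g2_no_big _

/-! ### Groups of type M(24) -/

variable {G : Type u} [Group G] [Finite G] {D : Set G}
variable (hD : Cfsg.IsThreeTranspositionGroup D) (hP : Cfsg.IsPrimitiveUnderConj D)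
variable (h : Cfsg.IsOfTypeM24 G D)
include hD hP h

theorem thirteen_subgroups_conj : ∀ X Y : Subgroup G, Nat.card X = 13 → Nat.card Y = 13 →
    ∃ g : G, X.map (MulAut.conj g).toMonoidHom = Y := by
  intro X Y hX hY
  haveI : Fact (Nat.Prime 13) := ⟨by norm_num⟩
  have hcard : 13 ^ (Nat.card G).factorization 13 = 13 := by
    rw [m24_card hD hP h,
      show (2 ^ 22 * 3 ^ 16 * 5 ^ 2 * 7 ^ 3 * 11 * 13 * 17 * 23 * 29 : ℕ) =
        13 * (2 ^ 22 * 3 ^ 16 * 5 ^ 2 * 7 ^ 3 * 11 * 17 * 23 * 29) by ring,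
      Nat.factorization_mul (by norm_num) (by norm_num), Finsupp.add_apply,
      Nat.Prime.factorization_self (by norm_num),
      Nat.factorization_eq_zero_of_not_dvd (by norm_num), pow_one]
  obtain ⟨g, hg⟩ := MulAction.exists_smul_eq G (Sylow.ofCard X (hX.trans hcard.symm))
    (Sylow.ofCard Y (hY.trans hcard.symm))
  exact ⟨g, congrArg (fun P : Sylow 13 G => (P : Subgroup G)) hg⟩

variable {a d b c : G} (ha : a ∈ D) (hd : d ∈ D) (hb : b ∈ D) (hc : c ∈ D)
variable (had : ¬ Commute a d) (hbc : ¬ Commute b c)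
variable (hab : Commute a b) (hac : Commute a c) (hdb : Commute d b) (hdc : Commute d c)
include ha hd hb hc had hbc hab hac hdb hdc

omit hP h hb hc hbc in
theorem side_facts : a * d * a ∈ D ∧ a * d * a = d * a * d ∧ Commute (a * d * a) b ∧
    Commute (a * d * a) c ∧ ¬ Commute a (a * d * a) ∧ ¬ Commute d (a * d * a) := by
  have ia : a⁻¹ = a := Trans3.inv_eq hD.1 ha
  have id' : d⁻¹ = d := Trans3.inv_eq hD.1 hd
  have hf : a * d * a ∈ D := by
    have := hD.2.1 a d hd
    rwa [ia] at this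
  have hbr : a * d * a = d * a * d := Trans3.braid hD.1 ha hd had
  refine ⟨hf, hbr, (hab.mul_left hdb).mul_left hab, (hac.mul_left hdc).mul_left hac, ?_, ?_⟩
  · intro hx
    have := (hx.map (MulAut.conj a).toMonoidHom)
    simp only [MulEquiv.coe_toMonoidHom, MulAut.conj_apply] at this
    rw [show a * a * a⁻¹ = a by group, show a * (a * d * a) * a⁻¹ = (a * a⁻¹) * d * (a * a⁻¹) by
      rw [ia]; group, mul_inv_cancel, one_mul, mul_one] at this
    exact had this
  · intro hx
    rw [hbr] at hx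
    have := (hx.map (MulAut.conj d).toMonoidHom)
    simp only [MulEquiv.coe_toMonoidHom, MulAut.conj_apply] at this
    rw [show d * d * d⁻¹ = d by group, show d * (d * a * d) * d⁻¹ = (d * d⁻¹) * a * (d * d⁻¹) by
      rw [id']; group, mul_inv_cancel, one_mul, mul_one] at this
    exact had this.symm

omit hP h hb hc hbc hab hac hdb hdc in
/-- The dihedral group moves the pair to any pair of two of its members. -/
theorem side_moves {p q : G} (hp : p = a ∨ p = d ∨ p = a * d * a)
    (hq : q = a ∨ q = d ∨ q = a * d * a) (hpq : ¬ Commute p q) :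
    ∃ t ∈ closure ({a, d} : Set G), t * a * t⁻¹ = p ∧ t * d * t⁻¹ = q := by
  have ma : a ∈ closure ({a, d} : Set G) := subset_closure (by simp)
  have md : d ∈ closure ({a, d} : Set G) := subset_closure (by simp)
  have ia : a⁻¹ = a := Trans3.inv_eq hD.1 ha
  have id' : d⁻¹ = d := Trans3.inv_eq hD.1 hd
  have hbr : a * d * a = d * a * d := Trans3.braid hD.1 ha hd had
  have ea : a * a = 1 := by nth_rewrite 1 [← ia]; exact inv_mul_cancel a
  have ed : d * d = 1 := by nth_rewrite 1 [← id']; exact inv_mul_cancel d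
  have e1 : a * d * a * (a * d)⁻¹ = d := Trans3.conj_of_noncomm hD.1 ha hd had
  have e2 : d * a * d * (d * a)⁻¹ = a := Trans3.conj_of_noncomm hD.1 hd ha fun x => had x.symm
  rcases hp with h1 | h1 | h1 <;> rcases hq with h2 | h2 | h2 <;> subst p q
  all_goals first
    | exact absurd (Commute.refl _) hpq
    | skip
  · exact ⟨1, one_mem _, by group, by group⟩
  · exact ⟨a, ma, by group, by rw [ia]⟩
  · refine ⟨a * d * a, mul_mem (mul_mem ma md) ma, ?_, ?_⟩
    · calc a * d * a * a * (a * d * a)⁻¹ = a * d * (a * a) * a * d * a := by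
            rw [_root_.mul_inv_rev, _root_.mul_inv_rev, ia, id']; group
        _ = (a * d * a) * d * a := by rw [ea]; group
        _ = d * a * (d * d) * a := by rw [hbr]; group
        _ = d * (a * a) := by rw [ed]; group
        _ = d := by rw [ea, mul_one]
    · calc a * d * a * d * (a * d * a)⁻¹ = (a * d * a) * d * a * d * a := by
            rw [_root_.mul_inv_rev, _root_.mul_inv_rev, ia, id']; group
        _ = d * a * (d * d) * a * d * a := by rw [hbr]; group
        _ = d * (a * a) * d * a := by rw [ed]; group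
        _ = (d * d) * a := by rw [ea]; group
        _ = a := by rw [ed, one_mul]
  · refine ⟨a * d, mul_mem ma md, e1, ?_⟩
    rw [_root_.mul_inv_rev, ia, id', show a * d * d * (d * a) = a * (d * d) * d * a by group, ed,
      mul_one]
  · refine ⟨d * a, mul_mem md ma, ?_, ?_⟩
    · rw [_root_.mul_inv_rev, ia, id', show d * a * a * (a * d) = d * (a * a) * a * d by group, ea,
        mul_one, ← hbr]
    · exact e2
  · refine ⟨d, md, ?_, ?_⟩
    · rw [id', ← hbr]
    · rw [id', show d * d * d = (d * d) * d by group, ed, one_mul]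

omit hP h hb hc in
/-- The six members. -/
theorem six_cross {p q : G} (hp : p = a ∨ p = d ∨ p = a * d * a)
    (hq : q = b ∨ q = c ∨ q = b * c * b) : Commute p q := by
  obtain ⟨-, -, f1, f2, -, -⟩ := side_facts hD ha hd had hab hac hdb hdc
  have key : ∀ r, Commute r b → Commute r c → Commute r q := fun r h1 h2 => by
    rcases hq with rfl | rfl | rfl
    exacts [h1, h2, (h1.mul_right h2).mul_right h1]
  rcases hp with rfl | rfl | rfl
  exacts [key _ hab hac, key _ hdb hdc, key _ f1 f2]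

omit hP h hb hc hbc in
theorem six_within {p q : G} (hp : p = a ∨ p = d ∨ p = a * d * a)
    (hq : q = a ∨ q = d ∨ q = a * d * a) (hne : p ≠ q) : ¬ Commute p q := by
  obtain ⟨-, -, -, -, n1, n2⟩ := side_facts hD ha hd had hab hac hdb hdc
  rcases hp with h1 | h1 | h1 <;> rcases hq with h2 | h2 | h2 <;> subst p q
  exacts [absurd rfl hne, had, n1, fun x => had x.symm, absurd rfl hne, n2, fun x => n1 x.symm,
    fun x => n2 x.symm, absurd rfl hne]

/-- The members commuting with an element of order 13 commuting with the four. -/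
theorem fx_six {y : G} (hy : orderOf y = 13) (ya : Commute a y) (yd : Commute d y) (yb : Commute b y)
    (yc : Commute c y) :
    ∀ s, s ∈ Fx D y ↔ (s = a ∨ s = d ∨ s = a * d * a) ∨ (s = b ∨ s = c ∨ s = b * c * b) := by
  haveI : Fact (Nat.Prime 13) := ⟨by norm_num⟩
  obtain ⟨fD, -, -, -, n1, n2⟩ := side_facts hD ha hd had hab hac hdb hdc
  obtain ⟨gD, -, -, -, m1, m2⟩ := side_facts hD hb hc hbc hab.symm hdb.symm hac.symm hdc.symm
  have hP1 : ∀ s, (s = a ∨ s = d ∨ s = a * d * a) → s ∈ Fx D y := by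
    rintro s (rfl | rfl | rfl)
    exacts [⟨ha, ya⟩, ⟨hd, yd⟩, ⟨fD, (ya.mul_left yd).mul_left ya⟩]
  have hP2 : ∀ s, (s = b ∨ s = c ∨ s = b * c * b) → s ∈ Fx D y := by
    rintro s (rfl | rfl | rfl)
    exacts [⟨hb, yb⟩, ⟨hc, yc⟩, ⟨gD, (yb.mul_left yc).mul_left yb⟩]
  have h3 := (Trans3.Fi.M24TwentyNine.thirteen_local hD hP h hy).1
  -- a member and the three on the other side
  have nbr : ∀ (p u v : G), p ∈ Fx D y → u ∈ Fx D y → v ∈ Fx D y → u * v * u ∈ Fx D y →
      Commute p u → Commute p v → u ≠ v → u ≠ u * v * u → v ≠ u * v * u →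
      p ≠ u → p ≠ v → p ≠ u * v * u →
      ∀ s, s ∈ Fx D y → s ≠ p → Commute p s → s = u ∨ s = v ∨ s = u * v * u := by
    intro p u v hp hu hv hw c1 c2 n1 n2 n3 p1 p2 p3 s hs hsp hps
    have hsub : ({u, v, u * v * u} : Set G) ⊆ {b | b ∈ Fx D y ∧ b ∈ nbrs D p} := by
      rintro x (rfl | rfl | rfl)
      exacts [⟨hu, hu.1, p1.symm, c1⟩, ⟨hv, hv.1, p2.symm, c2⟩,
        ⟨hw, hw.1, p3.symm, (c1.mul_right c2).mul_right c1⟩]
    have heq := Set.eq_of_subset_of_ncard_le hsub (by
      rw [h3 p hp, Set.ncard_eq_three.2 ⟨u, v, u * v * u, n1, n2, n3, rfl⟩]) (Set.toFinite _)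
    have : s ∈ ({u, v, u * v * u} : Set G) := heq ▸ ⟨hs, hs.1, hsp, hps⟩
    simpa using this
  have ne_of : ∀ {p q : G}, ¬ Commute p q → p ≠ q := fun hn e => hn (e ▸ Commute.refl _)
  have nside : ∀ p q : G, (p = a ∨ p = d ∨ p = a * d * a) → (q = b ∨ q = c ∨ q = b * c * b) →
      p ≠ q := by
    intro p q hp hq e
    have e1 : Commute p c := six_cross hD ha hd had hbc hab hac hdb hdc hp (Or.inr (Or.inl rfl))
    have e2 : Commute p b := six_cross hD ha hd had hbc hab hac hdb hdc hp (Or.inl rfl)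
    rcases hq with rfl | rfl | rfl
    · exact hbc (e ▸ e1)
    · exact hbc (e ▸ e2).symm
    · exact m1 (e ▸ e2).symm
  intro s
  refine ⟨fun hs => ?_, fun hs => hs.elim (hP1 s) (hP2 s)⟩
  by_cases hsa : s = a
  · exact Or.inl (Or.inl hsa)
  by_cases has : Commute a s
  · exact Or.inr (nbr a b c (hP1 a (by simp)) (hP2 b (by simp)) (hP2 c (by simp))
      (hP2 _ (by simp)) hab hac (ne_of hbc) (ne_of m1) (ne_of m2) (nside a b (by simp) (by simp))
      (nside a c (by simp) (by simp)) (nside a _ (by simp) (by simp)) s hs hsa has)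
  · -- a common neighbour fixed by the element
    have hinv : ∀ e ∈ CN D a s, y * e * y⁻¹ ∈ CN D a s := fun e he => by
      refine ⟨hD.2.1 y e he.1, ?_, ?_⟩
      · exact (ya.mul_right he.2.1).mul_right ya.inv_right
      · exact (hs.2.mul_right he.2.2).mul_right hs.2.inv_right
    have hmod := ncard_fixed_modEq hy hinv
    rw [m24_common_card hD hP h ha hs.1 has] at hmod
    obtain ⟨e, ⟨heD, hae, hse⟩, hey⟩ : {e | e ∈ CN D a s ∧ Commute e y}.Nonempty :=
      Set.nonempty_of_ncard_ne_zero fun e0 => by rw [e0] at hmod; exact absurd hmod (by decide)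
    have hea : e ≠ a := fun e' => has (e' ▸ hse).symm
    have he := nbr a b c (hP1 a (by simp)) (hP2 b (by simp)) (hP2 c (by simp))
      (hP2 _ (by simp)) hab hac (ne_of hbc) (ne_of m1) (ne_of m2) (nside a b (by simp) (by simp))
      (nside a c (by simp) (by simp)) (nside a _ (by simp) (by simp)) e ⟨heD, hey⟩ hea hae
    have hes : s ≠ e := fun e' => has (e' ▸ hae)
    refine Or.inl (nbr e a d ⟨heD, hey⟩ (hP1 a (by simp)) (hP1 d (by simp)) (hP1 _ (by simp))
      hae.symm ?_ (ne_of had) (ne_of n1) (ne_of n2) ?_ ?_ ?_ s hs hes hse.symm)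
    · exact (six_cross hD ha hd had hbc hab hac hdb hdc (Or.inr (Or.inl rfl)) he).symm
    · exact fun e' => nside a e (by simp) he e'.symm
    · exact fun e' => nside d e (by simp) he e'.symm
    · exact fun e' => nside _ e (by simp) he e'.symm

/-- The group generated by the four. -/
theorem t_facts :
    Nat.card ↥(closure ({a, b, c, d} : Set G)) = 36 ∧
      closure ({a, b, c, d} : Set G) ⊓ centralizer ({a, d, b, c} : Set G) = ⊥ ∧
      ∀ t ∈ closure ({a, b, c, d} : Set G), ∃ u ∈ closure ({a, d} : Set G),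
        ∃ v ∈ closure ({b, c} : Set G), t = u * v := by
  obtain ⟨hX, hXY, -, ⟨eX⟩, -⟩ := pair_split (lvl_m24 hD hP h) (pairGen_m24 hD hP h) ha hd had
  obtain ⟨eY⟩ := closure_pair_iso hD hb hc hbc
  obtain ⟨X, eqX⟩ : ∃ X, X = closure ({a, d} : Set G) := ⟨_, rfl⟩
  obtain ⟨Y, eqY⟩ : ∃ Y, Y = closure ({b, c} : Set G) := ⟨_, rfl⟩
  have hYL : Y ≤ closure (CN D a d) := eqY ▸ closure_mono (by
    rintro x (rfl | rfl)
    exacts [⟨hb, hab, hdb⟩, ⟨hc, hac, hdc⟩])
  have hcomm : ∀ x ∈ X, ∀ y ∈ Y, Commute x y := fun x hx y hy => hXY x (eqX ▸ hx) y (hYL hy)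
  have hT : closure ({a, b, c, d} : Set G) = X ⊔ Y := by
    rw [eqX, eqY, ← Subgroup.closure_union]
    congr 1
    ext x
    simp only [Set.mem_insert_iff, Set.mem_singleton_iff, Set.mem_union]
    tauto
  let f : ↥X × ↥Y →* G := MonoidHom.noncommCoprod X.subtype Y.subtype fun x y =>
    hcomm x x.2 y y.2
  have hr : f.range = X ⊔ Y := by
    exact (MonoidHom.noncommCoprod_range _ _ _).trans
      (by rw [Subgroup.range_subtype, Subgroup.range_subtype])
  have hinj : Function.Injective f := (injective_iff_map_eq_one f).2 fun ⟨x, y⟩ hxy => by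
    have h0 : (x : G) * (y : G) = 1 := hxy
    have hx1 : (x : G) ∈ closure ({a, d} : Set G) ⊓ closure (CN D a d) :=
      Subgroup.mem_inf.2 ⟨eqX ▸ x.2, by rw [eq_inv_of_mul_eq_one_left h0]; exact inv_mem (hYL y.2)⟩
    rw [hX, Subgroup.mem_bot] at hx1
    rw [hx1, one_mul] at h0
    exact Prod.ext (Subtype.ext hx1) (Subtype.ext h0)
  refine ⟨?_, ?_, fun t ht => ?_⟩
  · rw [hT, ← hr, ← Nat.card_congr (MonoidHom.ofInjective hinj).toEquiv, Nat.card_prod, eqX, eqY,
      Nat.card_congr eX.toEquiv, Nat.card_congr eY.toEquiv, Nat.card_perm, Nat.card_fin]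
    rfl
  · rw [Subgroup.eq_bot_iff_forall]
    intro z hz
    obtain ⟨hzT, hzC⟩ := Subgroup.mem_inf.1 hz
    rw [hT, ← hr] at hzT
    obtain ⟨⟨x, y⟩, rfl⟩ := hzT
    have hzc : ∀ w ∈ f.range, Commute (f (x, y)) w := by
      intro w hw
      rw [hr, ← hT] at hw
      induction hw using Subgroup.closure_induction with
      | mem u hu =>
        refine (Subgroup.mem_centralizer_iff.1 hzC u ?_).symm
        rcases hu with rfl | rfl | rfl | rfl <;> simp
      | one => exact Commute.one_right _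
      | mul u v _ _ h1 h2 => exact h1.mul_right h2
      | inv u _ h1 => exact h1.inv_right
    have hxc : ∀ w : ↥X, w * x = x * w := fun w => by
      have := hinj (show f ((w, 1) * (x, y)) = f ((x, y) * (w, 1)) by
        rw [map_mul, map_mul]; exact (hzc _ ⟨(w, 1), rfl⟩).eq.symm)
      exact congrArg Prod.fst this
    have hyc : ∀ w : ↥Y, w * y = y * w := fun w => by
      have := hinj (show f ((1, w) * (x, y)) = f ((x, y) * (1, w)) by
        rw [map_mul, map_mul]; exact (hzc _ ⟨(1, w), rfl⟩).eq.symm)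
      exact congrArg Prod.snd this
    subst eqX eqY
    have hx0 : x = 1 := eX.injective ((CfsgLib.Trans3.Fi.perm_three_center _ fun t => by
      obtain ⟨w, rfl⟩ := eX.surjective t
      rw [← map_mul, ← map_mul, hxc w]).trans (map_one eX).symm)
    have hy0 : y = 1 := eY.injective ((CfsgLib.Trans3.Fi.perm_three_center _ fun t => by
      obtain ⟨w, rfl⟩ := eY.surjective t
      rw [← map_mul, ← map_mul, hyc w]).trans (map_one eY).symm)
    rw [hx0, hy0]
    exact map_one f
  · rw [hT, ← hr] at ht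
    obtain ⟨⟨u, v⟩, rfl⟩ := ht
    exact ⟨u, eqX ▸ u.2, v, eqY ▸ v.2, rfl⟩

/-- The normaliser of a subgroup of order 13 centralising the four. -/
theorem thirteen_normalizer (e : ↥(centralizer ({a, d, b, c} : Set G)) ≃*
      ↥(Cfsg.Lie.chevG2.group (ZMod 3)))
    (B : Subgroup G) (hB : B ≤ centralizer ({a, d, b, c} : Set G)) (hBc : Nat.card B = 13) :
    normalizer (B : Set G) ≤ normalizer (centralizer ({a, d, b, c} : Set G) : Set G) ∧
      Nat.card ↥(centralizer ({a, d, b, c} : Set G) ⊓ normalizer (B : Set G)) = 78 ∧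
      centralizer ({a, d, b, c} : Set G) ⊓ centralizer (B : Set G) = B ∧
      (((centralizer ({a, d, b, c} : Set G) ⊓ normalizer (B : Set G)) ⊔
        closure ({a, b, c, d} : Set G)).subgroupOf (normalizer (B : Set G))).index = 2 := by
  haveI h13 : Fact (Nat.Prime 13) := ⟨by norm_num⟩
  obtain ⟨K, eK⟩ : ∃ K, K = centralizer ({a, d, b, c} : Set G) := ⟨_, rfl⟩
  obtain ⟨T, eT⟩ : ∃ T, T = closure ({a, b, c, d} : Set G) := ⟨_, rfl⟩
  obtain ⟨N, eN⟩ : ∃ N, N = normalizer (B : Set G) := ⟨_, rfl⟩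
  rw [← eK, ← eT, ← eN]
  obtain ⟨y, hy⟩ := exists_prime_orderOf_dvd_card' (G := ↥B) 13 (dvd_of_eq hBc.symm)
  have hyG : orderOf (y : G) = 13 := by rw [Subgroup.orderOf_coe, hy]
  have hBy : B = zpowers (y : G) := (Subgroup.eq_of_le_of_card_ge (zpowers_le.2 y.2) (by
    rw [Nat.card_zpowers, hyG, hBc])).symm
  have hym : ∀ x ∈ ({a, d, b, c} : Set G), Commute x (y : G) := fun x hx =>
    Subgroup.mem_centralizer_iff.1 (hB y.2) x hx
  have six := fx_six hD hP h ha hd hb hc had hbc hab hac hdb hdc hyG (hym a (by simp))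
    (hym d (by simp)) (hym b (by simp)) (hym c (by simp))
  obtain ⟨fD, -, fb, fc, n1, n2⟩ := side_facts hD ha hd had hab hac hdb hdc
  obtain ⟨gD, -, -, -, m1, m2⟩ := side_facts hD hb hc hbc hab.symm hdb.symm hac.symm hdc.symm
  -- conjugation in the normaliser permutes the six
  have hFx : ∀ g ∈ N, ∀ s ∈ Fx D (y : G), g * s * g⁻¹ ∈ Fx D (y : G) := by
    intro g hg s hs
    refine ⟨hD.2.1 g s hs.1, ?_⟩
    rw [eN] at hg
    have hz : g⁻¹ * (y : G) * g ∈ zpowers (y : G) := hBy ▸ (mem_normalizer_iff''.1 hg y.1).1 y.2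
    obtain ⟨m, hm⟩ := hz
    have h1 : Commute s (g⁻¹ * (y : G) * g) := hm ▸ hs.2.zpow_right m
    have h2 := h1.map (MulAut.conj g).toMonoidHom
    simpa [mul_assoc] using h2
  have hsixT : ∀ s ∈ Fx D (y : G), s ∈ T := by
    intro s hs
    have mm : a ∈ T ∧ b ∈ T ∧ c ∈ T ∧ d ∈ T := eT ▸ ⟨subset_closure (by simp),
      subset_closure (by simp), subset_closure (by simp), subset_closure (by simp)⟩
    obtain ⟨ma, mb, mc, md⟩ := mm
    rcases (six s).1 hs with (rfl | rfl | rfl) | (rfl | rfl | rfl)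
    exacts [ma, md, mul_mem (mul_mem ma md) ma, mb, mc, mul_mem (mul_mem mb mc) mb]
  have hNK : N ≤ normalizer (K : Set G) := by
    have key : ∀ g ∈ N, ∀ k ∈ K, g * k * g⁻¹ ∈ K := by
      intro g hg k hk
      rw [eK, Subgroup.mem_centralizer_iff] at hk ⊢
      intro x hx
      have hxF : g⁻¹ * x * g ∈ Fx D (y : G) := by
        have hxs : x ∈ Fx D (y : G) := by
          refine (six x).2 ?_
          rcases hx with rfl | rfl | rfl | rfl <;> simp
        have := hFx g⁻¹ (inv_mem hg) x hxs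
        rwa [inv_inv] at this
      have hxT := eT ▸ hsixT _ hxF
      have hck : Commute (g⁻¹ * x * g) k := by
        have hle : closure ({a, b, c, d} : Set G) ≤ centralizer ({k} : Set G) :=
          (closure_le _).2 fun u hu => mem_centralizer_singleton_iff.2 (hk u (by
            rcases hu with rfl | rfl | rfl | rfl <;> simp))
        exact mem_centralizer_singleton_iff.1 (hle hxT)
      have := (hck.map (MulAut.conj g).toMonoidHom).eq
      simpa [mul_assoc] using this
    exact fun g hg => mem_normalizer_iff.2 fun k => ⟨key g hg k, fun hk => by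
      have := key g⁻¹ (inv_mem hg) _ hk
      rwa [inv_inv, show g⁻¹ * (g * k * g⁻¹) * g = k by group] at this⟩
  -- the order of the normaliser
  have hFxset : Fx D (y : G) = {a, d, a * d * a, b, c, b * c * b} := by
    ext s
    rw [six s]
    simp only [Set.mem_insert_iff, Set.mem_singleton_iff, or_assoc]
  have hNcard : Nat.card ↥N = 5616 := by
    have h2 := (Trans3.Fi.M24TwentyNine.thirteen_local hD hP h hyG).2
    rw [← hBy, ← eN, hFxset] at h2
    have ne_of : ∀ {p q : G}, ¬ Commute p q → p ≠ q := fun hn e => hn (e ▸ Commute.refl _)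
    have nb : ∀ p q : G, (p = a ∨ p = d ∨ p = a * d * a) → (q = b ∨ q = c ∨ q = b * c * b) →
        p ≠ q := by
      intro p q hp hq epq
      have e1 : Commute p c := six_cross hD ha hd had hbc hab hac hdb hdc hp (Or.inr (Or.inl rfl))
      have e2 : Commute p b := six_cross hD ha hd had hbc hab hac hdb hdc hp (Or.inl rfl)
      rcases hq with rfl | rfl | rfl
      · exact hbc (epq ▸ e1)
      · exact hbc (epq ▸ e2).symm
      · exact m1 (epq ▸ e2).symm
    have x1 := ne_of had
    have x2 := ne_of n1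
    have x3 := ne_of n2
    have x4 := ne_of hbc
    have x5 := ne_of m1
    have x6 := ne_of m2
    rw [h2, Set.ncard_insert_of_notMem, Set.ncard_insert_of_notMem, Set.ncard_insert_of_notMem,
      Set.ncard_eq_three.2 ⟨b, c, b * c * b, x4, x5, x6, rfl⟩]
    all_goals
      simp only [Set.mem_insert_iff, Set.mem_singleton_iff, not_or]
      repeat' constructor
      all_goals first
        | assumption
        | exact nb _ _ (by simp) (by simp)
  -- the part preserving the sides
  have hTN : T ≤ N := by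
    rw [eT, eN]
    refine (closure_le _).2 fun x hx => centralizer_le_normalizer _ ?_
    rw [Subgroup.mem_centralizer_iff]
    intro z hz
    obtain ⟨m, rfl⟩ := hBy ▸ hz
    refine ((hym x ?_).zpow_right m).symm.eq
    rcases hx with rfl | rfl | rfl | rfl <;> simp
  obtain ⟨hTcard, hTK, hTuv⟩ := t_facts hD hP h ha hd hb hc had hbc hab hac hdb hdc
  rw [← eT, ← eK] at hTK
  rw [← eT] at hTcard hTuv
  have hKT : ∀ k ∈ K, ∀ t ∈ T, Commute k t := by
    intro k hk t ht
    rw [eT] at ht
    rw [eK, Subgroup.mem_centralizer_iff] at hk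
    induction ht using Subgroup.closure_induction with
    | mem u hu => exact (hk u (by rcases hu with rfl | rfl | rfl | rfl <;> simp)).symm
    | one => exact Commute.one_right _
    | mul u v _ _ h1 h2 => exact h1.mul_right h2
    | inv u _ h1 => exact h1.inv_right
  obtain ⟨M, eM⟩ : ∃ M, M = (K ⊓ N) ⊔ T := ⟨_, rfl⟩
  have hMN : M ≤ N := eM ▸ sup_le inf_le_right hTN
  let f : ↥(K ⊓ N) × ↥T →* G := MonoidHom.noncommCoprod (K ⊓ N).subtype T.subtype fun k t =>
    hKT k k.2.1 t t.2
  have hfr : f.range = M := by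
    rw [eM]
    exact (MonoidHom.noncommCoprod_range _ _ _).trans
      (by rw [Subgroup.range_subtype, Subgroup.range_subtype])
  have hfi : Function.Injective f := (injective_iff_map_eq_one f).2 fun ⟨k, t⟩ hkt => by
    have h0 : (k : G) * (t : G) = 1 := hkt
    have h1 : (t : G) ∈ T ⊓ K := Subgroup.mem_inf.2 ⟨t.2, by rw [eq_inv_of_mul_eq_one_right h0]; exact inv_mem k.2.1⟩
    rw [hTK, Subgroup.mem_bot] at h1
    rw [h1, mul_one] at h0
    exact Prod.ext (Subtype.ext h0) (Subtype.ext h1)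
  have ne_self : ∀ {p q : G}, ¬ Commute p q → p ≠ q := fun hn e => hn (e ▸ Commute.refl _)
  have hcl : ∀ {p q : G}, (p = a ∨ p = d ∨ p = a * d * a) → q ∈ Fx D (y : G) → ¬ Commute p q →
      q = a ∨ q = d ∨ q = a * d * a := by
    intro p q hp hq hpq
    refine ((six q).1 hq).resolve_right fun hq' => hpq ?_
    exact six_cross hD ha hd had hbc hab hac hdb hdc hp hq'
  have hfix : ∀ (w : Set G), ∀ u ∈ closure w, ∀ p, (∀ v ∈ w, Commute v p) → u * p * u⁻¹ = p := by
    intro w u hu p hv
    refine Trans3.conj_eq_of_commute ?_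
    induction hu using Subgroup.closure_induction with
    | mem v hv' => exact hv v hv'
    | one => exact Commute.one_left _
    | mul v v' _ _ h1 h2 => exact h1.mul_left h2
    | inv v _ h1 => exact h1.inv_left
  have hab' : a ≠ b := fun e => hbc (e ▸ hac)
  have hbT : b ∈ T := hsixT b ((six b).2 (by simp))
  have haT : a ∈ T := hsixT a ((six a).2 (by simp))
  have hMiff : ∀ x ∈ N, x ∈ M ↔ (x * a * x⁻¹ = a ∨ x * a * x⁻¹ = d ∨ x * a * x⁻¹ = a * d * a) := by
    intro x hx
    constructor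
    · intro hxM
      rw [← hfr] at hxM
      obtain ⟨⟨k, t⟩, rfl⟩ := hxM
      obtain ⟨u, hu, v, hv, e'⟩ := hTuv t t.2
      have hk : Commute (k : G) (u * a * u⁻¹) := by
        refine hKT k k.2.1 _ ?_
        have huT : u ∈ T := eT ▸ closure_mono (by rintro z (rfl | rfl) <;> simp) hu
        exact mul_mem (mul_mem huT haT) (inv_mem huT)
      have e2 : f (k, t) * a * (f (k, t))⁻¹ = u * a * u⁻¹ := by
        show (k : G) * (t : G) * a * ((k : G) * (t : G))⁻¹ = _
        rw [e', show (k : G) * (u * v) * a * ((k : G) * (u * v))⁻¹ =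
          (k : G) * (u * (v * a * v⁻¹) * u⁻¹) * (k : G)⁻¹ by group,
          hfix _ v hv a (by rintro w (rfl | rfl) <;> [exact hab.symm; exact hac.symm]),
          Trans3.conj_eq_of_commute hk]
      rw [e2]
      have huN : u ∈ N := hTN (eT ▸ closure_mono (by rintro z (rfl | rfl) <;> simp) hu)
      have hq := (six _).1 (hFx u huN a ((six a).2 (by simp)))
      refine hq.resolve_right fun hq' => ?_
      have hub : u * b * u⁻¹ = b := hfix _ u hu b (by rintro w (rfl | rfl) <;> assumption)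
      have hcb : Commute b (u * a * u⁻¹) := by
        rw [← hub]
        exact ((Trans3.commute_conj_iff' u b a).2 hab.symm)
      have hne : u * a * u⁻¹ ≠ b := fun e'' =>
        hab' (mul_left_cancel (mul_right_cancel (e''.trans hub.symm)))
      exact six_within hD hb hc hbc hab.symm hdb.symm hac.symm hdc.symm (Or.inl rfl) hq' hne.symm hcb
    · intro hxa
      have hda : ¬ Commute (x * a * x⁻¹) (x * d * x⁻¹) := fun hcc =>
        had ((Trans3.commute_conj_iff' x a d).1 hcc)
      have hxd := hcl hxa (hFx x hx d ((six d).2 (by simp))) hda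
      obtain ⟨t, ht, e1, e2⟩ := side_moves hD ha hd had hxa hxd hda
      -- the other side
      have hb' : ∀ w, (w = b ∨ w = c) → x * w * x⁻¹ = b ∨ x * w * x⁻¹ = c ∨
          x * w * x⁻¹ = b * c * b := by
        intro w hw
        refine ((six _).1 (hFx x hx w ((six w).2 (by rcases hw with rfl | rfl <;> simp)))).resolve_left
          fun hp => ?_
        have hwa : Commute a w := by rcases hw with rfl | rfl <;> assumption
        have hne : x * w * x⁻¹ ≠ x * a * x⁻¹ := fun e' => by
          have := mul_left_cancel (mul_right_cancel e')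
          rcases hw with rfl | rfl
          · exact hbc (this ▸ hac)
          · exact hbc (this ▸ hab).symm
        exact six_within hD ha hd had hab hac hdb hdc hp hxa hne
          ((Trans3.commute_conj_iff' x w a).2 hwa.symm)
      obtain ⟨s, hs, e3, e4⟩ := side_moves hD hb hc hbc (hb' b (Or.inl rfl)) (hb' c (Or.inr rfl))
        (fun hcc => hbc ((Trans3.commute_conj_iff' x b c).1 hcc))
      have htT : t ∈ T := eT ▸ closure_mono (by rintro z (rfl | rfl) <;> simp) ht
      have hsT : s ∈ T := eT ▸ closure_mono (by rintro z (rfl | rfl) <;> simp) hs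
      have hsa : s * a * s⁻¹ = a := hfix _ s hs a (by
        rintro v (rfl | rfl) <;> [exact hab.symm; exact hac.symm])
      have hsd : s * d * s⁻¹ = d := hfix _ s hs d (by
        rintro v (rfl | rfl) <;> [exact hdb.symm; exact hdc.symm])
      have htq : ∀ q, (q = b ∨ q = c ∨ q = b * c * b) → t * q * t⁻¹ = q := fun q hq =>
        hfix _ t ht q (by
          rintro v (rfl | rfl)
          · exact six_cross hD ha hd had hbc hab hac hdb hdc (Or.inl rfl) hq
          · exact six_cross hD ha hd had hbc hab hac hdb hdc (Or.inr (Or.inl rfl)) hq)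
      have hconj : ∀ p ∈ ({a, d, b, c} : Set G), (t * s) * p * (t * s)⁻¹ = x * p * x⁻¹ := by
        intro p hp
        rw [show t * s * p * (t * s)⁻¹ = t * (s * p * s⁻¹) * t⁻¹ by group]
        rcases hp with rfl | rfl | rfl | rfl
        · rw [hsa, e1]
        · rw [hsd, e2]
        · rw [e3]; exact htq _ (hb' _ (Or.inl rfl))
        · rw [e4]; exact htq _ (hb' _ (Or.inr rfl))
      rw [eM]
      have hk : (t * s)⁻¹ * x ∈ K ⊓ N := by
        refine Subgroup.mem_inf.2 ⟨?_, mul_mem (inv_mem (mul_mem (hTN htT) (hTN hsT))) hx⟩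
        rw [eK, Subgroup.mem_centralizer_iff]
        intro p hp
        have hc := hconj p hp
        symm
        rw [← mul_inv_eq_iff_eq_mul]
        calc (t * s)⁻¹ * x * p * ((t * s)⁻¹ * x)⁻¹ = (t * s)⁻¹ * (x * p * x⁻¹) * (t * s) := by group
          _ = p := by rw [← hc]; group
      rw [show x = t * s * ((t * s)⁻¹ * x) by group]
      exact mul_mem (mem_sup_right (mul_mem htT hsT)) (mem_sup_left hk)
  -- the swap
  obtain ⟨g0, hg0, hg0ab⟩ : ∃ g ∈ N, g * a * g⁻¹ = b := by
    rw [eN]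
    refine Trans3.Fi.LocalLift.trans_fixed hD hP.1 (by norm_num : (13 : ℕ).Prime) hBc
      (fun w hw => ?_) ?_ ?_
    · rw [Trans3.Fi.LocalEleven.m24_centralizer_card hD hP h hw]
      norm_num
    · show a ∈ D ∩ (centralizer (B : Set G) : Set G)
      rw [CfsgLib.Trans3.Fi.Fx_eq D hBy]
      exact ⟨ha, hym a (by simp)⟩
    · show b ∈ D ∩ (centralizer (B : Set G) : Set G)
      rw [CfsgLib.Trans3.Fi.Fx_eq D hBy]
      exact ⟨hb, hym b (by simp)⟩
  have hidx : (M.subgroupOf N).index = 2 := by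
    rw [Subgroup.index_eq_two_iff]
    refine ⟨⟨g0, hg0⟩, fun ⟨x, hx⟩ => ?_⟩
    have e1 : x * g0 * a * (x * g0)⁻¹ = x * b * x⁻¹ := by rw [← hg0ab]; group
    have hcx : Commute (x * a * x⁻¹) (x * b * x⁻¹) := (Trans3.commute_conj_iff' x a b).2 hab
    have hne : x * a * x⁻¹ ≠ x * b * x⁻¹ := fun e' =>
      hab' (mul_left_cancel (mul_right_cancel e'))
    have i1 := hMiff x hx
    have i2 := hMiff (x * g0) (mul_mem hx hg0)
    rw [e1] at i2
    show Xor (x * g0 ∈ M) (x ∈ M)
    rcases (six _).1 (hFx x hx b ((six b).2 (by simp))) with hP1 | hP1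
    · refine Or.inl ⟨i2.2 hP1, fun hm => ?_⟩
      exact six_within hD ha hd had hab hac hdb hdc (i1.1 hm) hP1 hne hcx
    · refine Or.inr ⟨i1.2 (((six _).1 (hFx x hx a ((six a).2 (by simp)))).resolve_right fun hP2 =>
        six_within hD hb hc hbc hab.symm hdb.symm hac.symm hdc.symm hP2 hP1 hne hcx), fun hm => ?_⟩
      rcases i2.1 hm with e' | e' | e'
      · rcases hP1 with h' | h' | h' <;> rw [e'] at h'
        · exact hab' h'
        · exact hbc (h' ▸ hab).symm
        · exact m1 (h' ▸ hab).symm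
      · rcases hP1 with h' | h' | h' <;> rw [e'] at h'
        · exact hbc (h' ▸ hdc)
        · exact hbc (h' ▸ hdb).symm
        · exact m1 (h' ▸ hdb).symm
      · rcases hP1 with h' | h' | h' <;> rw [e'] at h'
        · exact hbc (h' ▸ fc)
        · exact hbc (h' ▸ fb).symm
        · exact m1 (h' ▸ fb).symm
  have hMcard : Nat.card ↥M = Nat.card ↥(K ⊓ N) * 36 := by
    rw [← hfr, ← Nat.card_congr (MonoidHom.ofInjective hfi).toEquiv, Nat.card_prod, hTcard]
  have h78 : Nat.card ↥(K ⊓ N) = 78 := by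
    have h2 := (M.subgroupOf N).card_mul_index
    rw [hidx, Nat.card_congr (subgroupOfEquivOfLe hMN).toEquiv, hMcard, hNcard] at h2
    omega
  refine ⟨hNK, h78, ?_, eM ▸ hidx⟩
  -- the centraliser
  obtain ⟨C, eC⟩ : ∃ C, C = K ⊓ centralizer (B : Set G) := ⟨_, rfl⟩
  rw [← eC]
  have hBC : B ≤ C := eC ▸ le_inf (eK ▸ hB) (fun z hz => by
    rw [Subgroup.mem_centralizer_iff]
    intro w hw
    obtain ⟨i, rfl⟩ := hBy ▸ hz
    obtain ⟨j, rfl⟩ := hBy ▸ hw
    exact (Commute.zpow_zpow (Commute.refl _) j i).eq)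
  have hCN : C ≤ K ⊓ N := eC ▸ eN ▸ inf_le_inf_left _ (centralizer_le_normalizer _)
  have hd78 : Nat.card ↥C ∣ 78 := h78 ▸ card_dvd_of_le hCN
  have h13C : 13 ∣ Nat.card ↥C := hBc ▸ card_dvd_of_le hBC
  have nob : ∀ p : ℕ, p.Prime → p = 2 ∨ p = 3 → ¬ p ∣ Nat.card ↥C := by
    intro p hp hp23 hdvd
    haveI : Fact p.Prime := ⟨hp⟩
    obtain ⟨z, hz⟩ := exists_prime_orderOf_dvd_card' (G := ↥C) p hdvd
    have hzG : orderOf (z : G) = p := by rw [Subgroup.orderOf_coe, hz]
    have hzK : (z : G) ∈ K := (eC ▸ z.2 : (z : G) ∈ K ⊓ centralizer (B : Set G)).1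
    have hcom : Commute (y : G) (z : G) := Subgroup.mem_centralizer_iff.1
      (eC ▸ z.2 : (z : G) ∈ K ⊓ centralizer (B : Set G)).2 y.1 y.2
    have hord : orderOf ((y : G) * (z : G)) = 13 * p := by
      rw [hcom.orderOf_mul_eq_mul_orderOf_of_coprime (by
        rw [hyG, hzG]; rcases hp23 with rfl | rfl <;> norm_num), hyG, hzG]
    have hmem : (y : G) * (z : G) ∈ centralizer ({a, d, b, c} : Set G) := eK ▸ mul_mem (eK ▸ hB y.2) hzK
    have he : orderOf (e ⟨_, hmem⟩) = 13 * p := by
      rw [MulEquiv.orderOf_eq, Subgroup.orderOf_mk, hord]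
    have := chev_no_big (e ⟨_, hmem⟩)
    rw [he] at this
    rcases hp23 with rfl | rfl
    exacts [this.1 rfl, this.2 rfl]
  have hC13 : Nat.card ↥C = 13 := by
    obtain ⟨i, hi⟩ := h13C
    rw [hi] at hd78 nob ⊢
    have hi6 : i ∣ 6 := Nat.dvd_of_mul_dvd_mul_left (by norm_num : 0 < 13) hd78
    have n2' := nob 2 Nat.prime_two (Or.inl rfl)
    have n3' := nob 3 Nat.prime_three (Or.inr rfl)
    have hle := Nat.le_of_dvd (by norm_num) hi6
    interval_cases i <;> omega
  exact (Subgroup.eq_of_le_of_card_ge hBC (by rw [hC13, hBc])).symm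

end CfsgLib.MaxSub.M24Pair
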